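import Cfsg.Agent.Lib.CosetEnum.Defs

/-! Generated table data. -/

set_option autoImplicit false
set_option maxRecDepth 20000

namespace Cfsg.Lib.CosetEnum.U62Pres.SubDFour

/-- Table data. -/
def tabC_0_0 : Tab :=
  (.node 32 (.node 16 (.node 8 (.node 4 (.node 2 (.node 1 (.leaf 0x4000000000000000b) (.leaf 0x4000000000000000c)) (.node 1 (.leaf 0x4000000000000000d) (.leaf 0x100001c0000700004c0000200000000006))) (.node 2 (.node 1 (.leaf 0x40000800001c00009000020000070000500000400000000008) (.leaf 0x100001c000070000540000200000000009)) (.node 1 (.leaf 0x40000a0000200000b000028000080000580000400002000004) (.leaf 0x40000c000020000180000340000c0000200000300002000007)))) (.node 4 (.node 2 (.node 1 (.leaf 0x4000170000240000200002400003) (.leaf 0x40001900002c0000200002c00001)) (.node 1 (.leaf 0x10000300000e0000280000200002400005) (.leaf 0x10000280001b0000280000100002400006))) (.node 2 (.node 1 (.leaf 0x40001a0000340000200003400001) (.leaf 0x10000300001b0000300000100002400009)) (.node 1 (.leaf 0x40000f0000380001000003c0000e0000700000400002c00007) (.leaf 0x10000380001e0000380000100002c00009)))))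 (.node 8 (.node 4 (.node 2 (.node 1 (.leaf 0x100003c0001d00007c0000f0000740000200003400004) (.leaf 0x4000210000400000200004000002)) (.node 1 (.leaf 0x40001100003c000220000480001100003c0000300003c00008) (.leaf 0x10000440001100008c0000200004000006))) (.node 2 (.node 1 (.leaf 0x4000250000480000200004800001) (.leaf 0x1000044000110000900000200004000009)) (.node 1 (.leaf 0x40000000001c0000200002000003) (.leaf 0x1000004000290000200000300002400001)))) (.node 4 (.node 2 (.node 1 (.leaf 0x10000080002a0000280000300002c00000) (.leaf 0x100000c0002a0000300000300003400002)) (.node 1 (.leaf 0x10000100002b0000380000300003c00002) (.leaf 0x10000140002d00003c0000300004000001))) (.node 2 (.node 1 (.leaf 0x10000180002e0000440000300004800003) (.leaf 0x100004c0000100000000000)) (.node 1 (.leaf 0x10000500000100000000001) (.leaf 0x10000540000100000000002)))))) (.node 16 (.node 8 (.node 4 (.node 2 (.node 1 (.leaf 0x40002900001c0000200000000003) (.leaf 0x10000a4000160000a40000300000400000)) (.node 1 (.leaf 0x10000a8000080000a40000300000400001) (.leaf 0x10000a4000180000a40000300000400002))) (.node 2 (.node 1 (.leaf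 0x10000ac0000a0000a80000300000800000) (.leaf 0x10000b00000c0000a80000300000800002)) (.node 1 (.leaf 0x10000a80001b0000a80000300000800003) (.leaf 0x10000ac0001c0000ac0000300000c00001)))) (.node 4 (.node 2 (.node 1 (.leaf 0x10000b40000e0000ac0000300000c00002) (.leaf 0x10000ac0001e0000ac0000300000c00003)) (.node 1 (.leaf 0x10000b40001d0000b00000300001000000) (.leaf 0x10000b00001f0000b00000300001000001))) (.node 2 (.node 1 (.leaf 0x10000b0000200000b00000300001000003) (.leaf 0x10000b80000f0000b40000300001400001)) (.node 1 (.leaf 0x10000b4000220000b40000300001400003) (.leaf 0x10000b8000230000b80000300001800000))))) (.node 4 (.node 2 (.node 1 (.leaf 0x10000b8000240000b80000300001800002) (.leaf 0x10000bc000110000b80000300001800003)) (.node 1 (.leaf 0x10000bc000260000bc0000300001c00000) (.leaf 0x10000bc000270000bc0000300001c00001))) (.leaf 0x10000bc000280000bc0000300001c00002))))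

/-- Table data. -/
def tabC_0 : Tab :=
  tabC_0_0

end Cfsg.Lib.CosetEnum.U62Pres.SubDFour
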