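import Cfsg.Agent.Lib.CosetEnum.Defs

/-! Generated table data. -/

set_option autoImplicit false
set_option maxRecDepth 20000

namespace Cfsg.Lib.CosetEnum.U62Pres.SubDFour

/-- Table data. -/
def tabZ_0_0 : Tab :=
  (.leaf 0x4400000000000000000000000000000000000000000000000000004700000000000000004600000000000000004500000000000000000000000000000000000000000000000000004400000000000000000000000000000000000000000000000000004300000000000000004000000000000000004200000000000000000000000000000000000000000000000000004100000000000000000000000000000000000000000000000000003b00000000000000004000000000000000003d00000000000000000000000000000000000000000000000000003f00000000000000000000000000000000000000000000000000003800000000000000003e00000000000000003d00000000000000000000000000000000000000000000000000003c00000000000000000000000000000000000000000000000000003b00000000000000003a000000000000000037000000000000000000000000000000000000000000000000000039000000000000000000000000000000000000000000000000000038000000000000000035000000000000000037000000000000000000000000000000000000000000000000000033000000000000000000000000000000000000000000000000000036000000000000000035000000000000000034000000000000000000000000000000000000000000000000000033000000000000000000000000000000000000000000000000000032000000000000000031000000000000000030)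

/-- Table data. -/
def tabZ_0 : Tab :=
  tabZ_0_0

end Cfsg.Lib.CosetEnum.U62Pres.SubDFour
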