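import Cfsg.Agent.Lib.CosetEnum.U62Pres.SubDFour.TabF_Data0
import Cfsg.Agent.Lib.CosetEnum.U62Pres.SubDFour.TabC_Data0
import Cfsg.Agent.Lib.CosetEnum.U62Pres.SubDFour.TabZ_Data0
import Cfsg.Agent.Lib.CosetEnum.U62Pres.SubDFour.TabP_Data0

/-! Generated certificate. -/

set_option autoImplicit false
set_option maxRecDepth 20000

namespace Cfsg.Lib.CosetEnum.U62Pres.SubDFour

/-- Table. -/
def tabF : Tab :=
  tabF_0

/-- Table. -/
def tabC : Tab :=
  tabC_0

/-- Table. -/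
def tabZ : Tab :=
  tabZ_0

/-- Table. -/
def tabP : Tab :=
  tabP_0

/-- The shifts in use. -/
def relWords : List (List Nat) :=
  [[0, 0],
    [1, 1],
    [2, 2],
    [5, 5],
    [0, 1, 0, 1, 0, 1],
    [0, 2, 0, 2],
    [0, 5, 0, 5],
    [1, 2, 1, 2, 1, 2],
    [1, 5, 1, 5, 1, 5],
    [2, 5, 2, 5],
    []]

/-- Subgroup words. -/
def subWords : List (List Nat) :=
  [[0],
    [1],
    [2]]

/-- The certificate. -/
def step : StepCert :=
  ⟨relWords, subWords, [0, 1, 2, 5], tabF, tabC, tabZ, tabP, 19, 53, 8, 8⟩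

end Cfsg.Lib.CosetEnum.U62Pres.SubDFour
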