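import Cfsg.Agent.Lib.CosetEnum.Defs

/-! Generated table data. -/

set_option autoImplicit false
set_option maxRecDepth 20000

namespace Cfsg.Lib.CosetEnum.U62Pres.SubDFour

/-- Table data. -/
def tabF_0_0 : Tab :=
  (.node 1 (.leaf 0x2000008500000000002000008100000000002800008000000000001800006500000000002800006200000000001800006100000000001000004500000000002000004200000000001800004000000000000800002200000000001000002100000000000800002000000000000800000500000000000000000200000000000000000100000000000000000000000000003800025f00000000003000021f0000000000280001ff0000000000200001bf00000000001800017f00000000001000013f00000000000800011f00000000009000024200000000009000024100000000009000024000000000009800025f0000000000800002020000000000800002000000000000780001e500000000008800021f0000000000680001a50000000000680001a10000000000580001650000000000780001a00000000000580001610000000000480001250000000000700001bf00000000006000017f00000000004000010200000000005000013f0000000000400001000000000000000000020000000000000000010000000000000000000000000000900002610000000000800002450000000000800002220000000000780002010000000000580001e20000000000680001c10000000000480001a20000000000580001810000000000480001600000000000480001450000000000400001210000000000000001050000000000300000e50000000000280000c10000000000180000a2000000000010000082000000000010000060000000000008000041000000000000000025) (.leaf 0x380000e20000000000380000e10000000000380000e00000000000380000c50000000000300000c20000000000300000c00000000000280000a50000000000300000a1))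

/-- Table data. -/
def tabF_0 : Tab :=
  tabF_0_0

end Cfsg.Lib.CosetEnum.U62Pres.SubDFour
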